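import Groth.Agent.Lib.FlatFP.InjCokerSheaf
import Groth.Agent.Lib.DimCut.StalkFibre
import Groth.Agent.Lib.Euler.Scalar
import Groth.Agent.Lib.QuasiFlat.Basic
import Groth.Agent.Lib.QCoh.SupportExact

/-!
# Openness of fibrewise regularity of a sequence of global sections
-/

set_option autoImplicit false
set_option linter.style.haveILetI false
universe u

open CategoryTheory CategoryTheory.Limits AlgebraicGeometry Opposite TopologicalSpace IsLocalRing
open RingTheory.Sequence TensorProduct
open scoped Pointwise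

namespace GrothLib.FibReg5

variable {A B : Type u} [CommRing A] [IsLocalRing A] [CommRing B] [IsLocalRing B] [IsNoetherianRing B]
  [Algebra A B] [IsLocalHom (algebraMap A B)] {M : Type u} [AddCommGroup M] [Module A M] [Module B M]
  [IsScalarTower A B M]

/-- A regular element with flat quotient is regular on the closed fibre. -/
theorem isSMulRegular_fibre (x : B) (hx : IsSMulRegular M x) [Module.Flat A (QuotSMulTop x M)] :
    IsSMulRegular (M ⧸ ((maximalIdeal A).map (algebraMap A B) • ⊤ : Submodule B M)) x := by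
  let u : M →ₗ[A] M := (LinearMap.lsmul B M x).restrictScalars A
  let π : M →ₗ[A] QuotSMulTop x M := (x • ⊤ : Submodule B M).mkQ.restrictScalars A
  have hex : Function.Exact u π := fun m => by
    constructor
    · intro hm
      obtain ⟨y, -, hy⟩ :=
        (Submodule.mem_smul_pointwise_iff_exists _ _ _).1 ((Submodule.Quotient.mk_eq_zero _).1 hm)
      exact ⟨y, hy⟩
    · rintro ⟨y, rfl⟩
      exact (Submodule.Quotient.mk_eq_zero _).2 (Submodule.smul_mem_pointwise_smul y x _ trivial)
  have hinj : Function.Injective (u.lTensor (ResidueField A)) :=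
    LinearMap.lTensor_injective_of_exact_of_flat π (Submodule.mkQ_surjective _) u hx hex _
  have hmem : ∀ m : M, m ∈ ((maximalIdeal A).map (algebraMap A B) • ⊤ : Submodule B M) ↔
      m ∈ maximalIdeal A • (⊤ : Submodule A M) := fun m =>
    iff_of_eq (congrArg (fun P : Submodule A M => m ∈ P)
      ((Ideal.smul_restrictScalars (maximalIdeal A) (⊤ : Submodule B M)).trans rfl))
  rw [isSMulRegular_iff_right_eq_zero_of_smul]
  intro t ht
  obtain ⟨m, rfl⟩ := Submodule.Quotient.mk_surjective _ t
  rw [← Submodule.Quotient.mk_smul, Submodule.Quotient.mk_eq_zero, hmem] at ht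
  rw [Submodule.Quotient.mk_eq_zero, hmem]
  have h1 : u.lTensor (ResidueField A) ((1 : ResidueField A) ⊗ₜ[A] m) = 0 := by
    rw [LinearMap.lTensor_tmul]
    exact (GrothLib.Flatness.one_tmul_eq_zero_iff _ _).2 ht
  exact (GrothLib.Flatness.one_tmul_eq_zero_iff _ _).1 (hinj (h1.trans (map_zero _).symm))

/-- The fibre of the quotient is the quotient of the fibre. -/
noncomputable def fibreQuotEquiv (K : Ideal B) (x : B) :
    QuotSMulTop x (M ⧸ (K • ⊤ : Submodule B M)) ≃ₗ[B]
      (QuotSMulTop x M ⧸ (K • ⊤ : Submodule B (QuotSMulTop x M))) :=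
  have hK : (K • ⊤ : Submodule B (QuotSMulTop x M)) =
      (K • ⊤ : Submodule B M).map (x • ⊤ : Submodule B M).mkQ := by
    rw [Submodule.map_smul'', Submodule.map_top, Submodule.range_mkQ]
  have hX : (x • ⊤ : Submodule B (M ⧸ (K • ⊤ : Submodule B M))) =
      (x • ⊤ : Submodule B M).map (K • ⊤ : Submodule B M).mkQ := by
    rw [Submodule.map_pointwise_smul, Submodule.map_top, Submodule.range_mkQ]
  Submodule.quotEquivOfEq _ _ hX ≪≫ₗ Submodule.quotientQuotientEquivQuotientSup _ _ ≪≫ₗ
    Submodule.quotEquivOfEq _ _ (sup_comm _ _) ≪≫ₗ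
    (Submodule.quotientQuotientEquivQuotientSup _ _).symm ≪≫ₗ
    (Submodule.quotEquivOfEq _ _ hK).symm

/-- Fibrewise regularity, one step: `C` stands for `M/xM`. -/
theorem isWeaklyRegular_fibre_cons [Module.Finite B M] [Module.Flat A M] (x : B) (rs : List B)
    {C : Type u} [AddCommGroup C] [Module A C] [Module B C] [IsScalarTower A B C]
    (e : QuotSMulTop x M ≃ₗ[B] C) :
    IsWeaklyRegular (M ⧸ ((maximalIdeal A).map (algebraMap A B) • ⊤ : Submodule B M)) (x :: rs) ↔
      (IsSMulRegular M x ∧ Module.Flat A C) ∧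
        IsWeaklyRegular (C ⧸ ((maximalIdeal A).map (algebraMap A B) • ⊤ : Submodule B C)) rs := by
  set K := (maximalIdeal A).map (algebraMap A B)
  have hmap : (K • ⊤ : Submodule B (QuotSMulTop x M)).map (e : QuotSMulTop x M →ₗ[B] C) = K • ⊤ := by
    rw [Submodule.map_smul'', Submodule.map_top, LinearMap.range_eq_top.2 e.surjective]
  rw [isWeaklyRegular_cons_iff, ((fibreQuotEquiv K x).trans
    (Submodule.Quotient.equiv _ _ e hmap)).isWeaklyRegular_congr rs, and_congr_left_iff]
  refine fun _ => ⟨fun h => ?_, fun ⟨h1, h2⟩ => ?_⟩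
  · obtain ⟨h3, h4⟩ := GrothLib.DimCut.isSMulRegular_flat_of_fibre (A := A) x h
    exact ⟨h3, Module.Flat.of_linearEquiv (e.symm.restrictScalars A)⟩
  · haveI : Module.Flat A (QuotSMulTop x M) := Module.Flat.of_linearEquiv (e.restrictScalars A)
    exact isSMulRegular_fibre x h1

section Scheme

variable {X Y : Scheme.{u}}

theorem isFP_of_isCoh [IsLocallyNoetherian X] {M : X.Modules} (hM : Coh.IsCoh M) : CohB1.IsFP M := by
  haveI := hM.1
  refine FlatFP.isFP_of_sections M (fun U : X.affineOpens => U.1) (iSup_affineOpens_eq_top X)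
    (fun U => U.2) fun U => ?_
  haveI := QCoh.moduleFinite_of_isFiniteType M hM.2 U.2
  haveI : IsNoetherianRing Γ(X, U.1) := IsLocallyNoetherian.component_noetherian U
  exact Module.finitePresentation_of_finite _ _

theorem exact_stalk_cokernel {F G : X.Modules} (φ : F ⟶ G) (x : X) :
    Function.Exact (QCoh.stalkLin φ x) (QCoh.stalkLin (cokernel.π φ) x) :=
  (ShortComplex.ShortExact.moduleCat_exact_iff_function_exact _).1
    ((OX.exact_iff (ShortComplex.mk φ (cokernel.π φ) (cokernel.condition φ))).1
      (ShortComplex.exact_of_g_is_cokernel _ (cokernelIsCokernel _)) x)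

/-- The stalk of the cokernel of multiplication by a global function. -/
noncomputable def stalkCokerSMul (F : X.Modules) (g : Coh.Γtop X) (x : X) :
    QuotSMulTop (X.presheaf.germ ⊤ x trivial g) (F.presheaf.stalk x) ≃ₗ[X.presheaf.stalk x]
      (cokernel (Euler.smulMod F g)).presheaf.stalk x :=
  Submodule.quotEquivOfEq _ _ (by
      rw [LinearMap.exact_iff.1 (exact_stalk_cokernel (Euler.smulMod F g) x)]
      ext m
      rw [Submodule.mem_smul_pointwise_iff_exists, LinearMap.mem_range]
      simp only [Euler.stalkLin_smulMod, Submodule.mem_top, true_and]) ≪≫ₗ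
    (QCoh.stalkLin (cokernel.π (Euler.smulMod F g)) x).quotKerEquivOfSurjective
      (QCoh.stalkLin_surjective _ x)

/-- Openness of the flat locus where the sequence is regular on the fibre. -/
theorem isOpen_flat_regular [IsLocallyNoetherian Y] (f : X ⟶ Y) [LocallyOfFiniteType f]
    [IsLocallyNoetherian X] (l : List (Coh.Γtop X)) : ∀ (F : X.Modules), Coh.IsCoh F →
    IsOpen {x : X | FlatMod.IsFlatOverAt f F x ∧
      IsWeaklyRegular
        (↑(F.presheaf.stalk x) ⧸ (Ideal.map (f.stalkMap x).hom (maximalIdeal ↑(Y.presheaf.stalk (f x))) •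
          (⊤ : Submodule ↑(X.presheaf.stalk x) ↑(F.presheaf.stalk x))))
        (l.map fun g => X.presheaf.germ ⊤ x trivial g)} := by
  haveI : LocallyOfFinitePresentation f := inferInstance
  induction l with
  | nil =>
    intro F hF
    haveI := hF.1
    convert FlatFP.isOpen_flatLocus f F (isFP_of_isCoh hF) using 1
    exact Set.ext fun x => and_iff_left (IsWeaklyRegular.nil _ _)
  | cons g l ih =>
    intro F hF
    haveI := hF.1
    let u := Euler.smulMod F g
    have hC : Coh.IsCoh (cokernel u) := QCoh.isCoh_cokernel u hF hF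
    convert (FlatFP.isOpen_flatLocus f F (isFP_of_isCoh hF)).inter
      ((FlatFP.isOpen_injCoker u f (isFP_of_isCoh hF) (isFP_of_isCoh hF)).inter (ih _ hC)) using 1
    ext x
    simp only [Set.mem_setOf_eq, Set.mem_inter_iff, List.map_cons]
    refine and_congr_right fun (hfl : FlatMod.IsFlatOverAt f F x) => ?_
    letI := (f.stalkMap x).hom.toAlgebra
    haveI : IsLocalHom (algebraMap (Y.presheaf.stalk (f x)) (X.presheaf.stalk x)) :=
      inferInstanceAs (IsLocalHom (f.stalkMap x).hom)
    letI := FlatMod.moduleStalkOver f F x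
    letI := FlatMod.moduleStalkOver f (cokernel u) x
    haveI : IsScalarTower (Y.presheaf.stalk (f x)) (X.presheaf.stalk x) (F.presheaf.stalk x) :=
      IsScalarTower.of_algebraMap_smul fun _ _ => rfl
    haveI : IsScalarTower (Y.presheaf.stalk (f x)) (X.presheaf.stalk x) ((cokernel u).presheaf.stalk x) :=
      IsScalarTower.of_algebraMap_smul fun _ _ => rfl
    haveI : Module.Flat (Y.presheaf.stalk (f x)) (F.presheaf.stalk x) := hfl
    haveI := QuasiFlat.finite_stalk F hF x
    have key := isWeaklyRegular_fibre_cons (A := Y.presheaf.stalk (f x))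
      (X.presheaf.germ ⊤ x trivial g) (l.map fun g => X.presheaf.germ ⊤ x trivial g)
      (stalkCokerSMul F g x)
    refine key.trans ?_
    have hfun : Function.Injective ((TopCat.Presheaf.stalkFunctor Ab x).map (Scheme.Modules.Hom.mapPresheaf u)) ↔
        IsSMulRegular (F.presheaf.stalk x) (X.presheaf.germ ⊤ x trivial g) := by
      show Function.Injective ⇑(QCoh.stalkLin u x) ↔ _
      rw [show ⇑(QCoh.stalkLin u x) = fun m : F.presheaf.stalk x => X.presheaf.germ ⊤ x trivial g • m from
        funext fun m => Euler.stalkLin_smulMod F g x m]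
      rfl
    rw [hfun]
    constructor
    · rintro ⟨⟨h1, h2⟩, h3⟩
      exact ⟨⟨h1, h2⟩, h2, h3⟩
    · rintro ⟨⟨h1, h2⟩, -, h3⟩
      exact ⟨⟨h1, h2⟩, h3⟩

end Scheme

end GrothLib.FibReg5
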